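import Groth.Agent.S0642
import Groth.Agent.KPi1Lib.FiniteEtale
import Groth.Agent.S0101
import Groth.Agent.RpushTorsLib.LTors
import Groth.Prelude.Def_SGA4b

/-!
# Composition of acyclic morphisms
-/

set_option autoImplicit false
set_option backward.isDefEq.respectTransparency false
set_option backward.isDefEq.respectTransparency.types false
set_option linter.style.haveILetI false
set_option maxHeartbeats 800000

universe u

open CategoryTheory CategoryTheory.Limits AlgebraicGeometry Opposite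

noncomputable section

namespace Groth.Agent.AcycCompLib

theorem HpullThen_eq_map {X Y : Scheme.{u}} (f : X ⟶ Y) [PreservesFiniteLimits (EtCoh.pull f)] (F : EtCoh.Ab Y)
    {M : EtCoh.Ab X} (α : (EtCoh.pull f).obj F ⟶ M) (n : ℕ) (x : EtCoh.H Y F n) :
    EtLim.HpullThen f F α n x = ((EtCoh.HF X n).map α).hom (EtCore.Hpull f F n x) := rfl

/-- Pulling back cohomology classes along a composite. -/
theorem Hpull_comp {A B C : Scheme.{u}} (g : B ⟶ A) (f : C ⟶ B) (h : C ⟶ A) (w : f ≫ g = h)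
    [PreservesFiniteLimits (EtCoh.pull g)] [PreservesFiniteLimits (EtCoh.pull f)]
    [PreservesFiniteLimits (EtCoh.pull h)] (F : EtCoh.Ab A) (n : ℕ) :
    ⇑((EtCoh.HF C n).map ((EtLimLib.comparePull g f h w).app F)).hom ∘ ⇑(EtCore.Hpull h F n) =
      ⇑(EtCore.Hpull f _ n) ∘ ⇑(EtCore.Hpull g F n) := funext fun x => by
  show EtLim.HpullThen h F ((EtLimLib.comparePull g f h w).app F) n x = _
  rw [EtLimLib.HpullThen_comparePull g f h w n F x, KPi1Lib.HpullThen_id', KPi1Lib.HpullThen_id']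
  rfl

theorem bijective_Hpull_comp_iff {A B C : Scheme.{u}} (g : B ⟶ A) (f : C ⟶ B) (h : C ⟶ A) (w : f ≫ g = h)
    [PreservesFiniteLimits (EtCoh.pull g)] [PreservesFiniteLimits (EtCoh.pull f)]
    [PreservesFiniteLimits (EtCoh.pull h)] (F : EtCoh.Ab A) (n : ℕ) :
    Function.Bijective (EtCore.Hpull h F n) ↔
      Function.Bijective (⇑(EtCore.Hpull f _ n) ∘ ⇑(EtCore.Hpull g F n)) := by
  haveI := EtLimLib.isIso_comparePull g f h w F
  rw [← Hpull_comp g f h w F n]
  exact (Function.Bijective.of_comp_iff' (ConcreteCategory.bijective_of_isIso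
    ((EtCoh.HF C n).map ((EtLimLib.comparePull g f h w).app F))) _).symm

theorem injective_Hpull_comp_iff {A B C : Scheme.{u}} (g : B ⟶ A) (f : C ⟶ B) (h : C ⟶ A) (w : f ≫ g = h)
    [PreservesFiniteLimits (EtCoh.pull g)] [PreservesFiniteLimits (EtCoh.pull f)]
    [PreservesFiniteLimits (EtCoh.pull h)] (F : EtCoh.Ab A) (n : ℕ) :
    Function.Injective (EtCore.Hpull h F n) ↔
      Function.Injective (⇑(EtCore.Hpull f _ n) ∘ ⇑(EtCore.Hpull g F n)) := by
  haveI := EtLimLib.isIso_comparePull g f h w F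
  rw [← Hpull_comp g f h w F n]
  exact (Function.Injective.of_comp_iff (ConcreteCategory.bijective_of_isIso
    ((EtCoh.HF C n).map ((EtLimLib.comparePull g f h w).app F))).1 _).symm

theorem bijective_Hpull_of_isIso {A B : Scheme.{u}} (f : B ⟶ A) [IsIso f] [PreservesFiniteLimits (EtCoh.pull f)]
    (F : EtCoh.Ab A) (n : ℕ) : Function.Bijective (EtCore.Hpull f F n) :=
  S0642.result f F n

/-- Inverse images of `L`-torsion sheaves are `L`-torsion. -/
theorem isLTorsion_pull {A B : Scheme.{u}} (f : B ⟶ A) {L : Set ℕ} {F : EtCoh.Ab A}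
    (hF : EtAcyc.IsLTorsion L F) : EtAcyc.IsLTorsion L ((EtCoh.pull f).obj F) := by
  refine (S8525.result L _).2 fun Ω _ _ ξ t => ?_
  let e := (EtPtsLib.pullStalkIso f ξ AddCommGrpCat.{u + 1}).app F
  obtain ⟨m, hm, h0⟩ := (S8525.result L F).1 hF Ω (ξ ≫ f) (e.hom t)
  refine ⟨m, hm, (ConcreteCategory.bijective_of_isIso e.hom).1 ?_⟩
  rw [map_nsmul, map_zero]
  exact h0

/-- The comparison condition along a composite. -/
theorem compN_comp_iff {A B C : Scheme.{u}} (g : B ⟶ A) (f : C ⟶ B) (h : C ⟶ A) (w : f ≫ g = h) (L : Set ℕ) (n : ℕ)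
    (hf : EtAcyc.CompN f L n) : EtAcyc.CompN g L n ↔ EtAcyc.CompN h L n := by
  haveI := S0101.result f
  haveI := S0101.result g
  haveI := S0101.result h
  constructor
  · intro hg F hF _
    obtain ⟨hf₁, hf₂⟩ := hf _ (isLTorsion_pull g hF)
    obtain ⟨hg₁, hg₂⟩ := hg F hF
    exact ⟨fun q hq => (bijective_Hpull_comp_iff g f h w F q).2 ((hf₁ q hq).comp (hg₁ q hq)),
      (injective_Hpull_comp_iff g f h w F (n + 1)).2 (hf₂.comp hg₂)⟩
  · intro hh F hF _
    obtain ⟨hf₁, hf₂⟩ := hf _ (isLTorsion_pull g hF)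
    obtain ⟨hh₁, hh₂⟩ := hh F hF
    exact ⟨fun q hq => (Function.Bijective.of_comp_iff' (hf₁ q hq) _).1
        ((bijective_Hpull_comp_iff g f h w F q).1 (hh₁ q hq)),
      Function.Injective.of_comp ((injective_Hpull_comp_iff g f h w F (n + 1)).1 hh₂)⟩

/-- Isomorphisms satisfy the comparison condition. -/
theorem compN_of_isIso {A B : Scheme.{u}} (f : B ⟶ A) [IsIso f] (L : Set ℕ) (n : ℕ) : EtAcyc.CompN f L n :=
  fun F _ _ => ⟨fun q _ => bijective_Hpull_of_isIso f F q, (bijective_Hpull_of_isIso f F (n + 1)).1⟩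

/-- Units along a composite. -/
theorem isIso_unitSh_comp_iff {A B C : Scheme.{u}} (g : B ⟶ A) (f : C ⟶ B) (h : C ⟶ A) (w : f ≫ g = h)
    (F : EtDesc.Sh A) (hf : IsIso ((EtDesc.adjSh f).unit.app ((EtDesc.pullSh g).obj F))) :
    IsIso ((EtDesc.adjSh h).unit.app F) ↔ IsIso ((EtDesc.adjSh g).unit.app F) := by
  subst w
  haveI := hf
  let adjL := ((EtDesc.adjSh g).comp (EtDesc.adjSh f)).ofNatIsoRight (EtDesc.pushCompSh g f)
  let σ := ((EtDesc.adjSh (f ≫ g)).leftAdjointUniq adjL).app F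
  have hu : (EtDesc.adjSh (f ≫ g)).unit.app F ≫ (EtDesc.pushSh (f ≫ g)).map σ.hom =
      (EtDesc.adjSh g).unit.app F ≫
        ((EtDesc.pushSh g).map ((EtDesc.adjSh f).unit.app ((EtDesc.pullSh g).obj F)) ≫
          (EtDesc.pushCompSh g f).hom.app _) := by
    refine (Adjunction.unit_leftAdjointUniq_hom_app (EtDesc.adjSh (f ≫ g)) adjL F).trans ?_
    simp only [adjL, Adjunction.ofNatIsoRight, Adjunction.comp]
    simp
  rw [← isIso_comp_right_iff _ ((EtDesc.pushSh (f ≫ g)).map σ.hom), hu, isIso_comp_right_iff]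

/-- Base change along an identity. -/
def bcIdIso (X : Scheme.{u}) : EtCoh.bc (𝟙 X) ≅ 𝟭 X.Etale :=
  NatIso.ofComponents (fun U => MorphismProperty.Over.isoMk (asIso (pullback.fst U.hom (𝟙 X)))
    ((pullback.condition (f := U.hom) (g := 𝟙 X)).trans (Category.comp_id _))) fun {U V} k => by
      apply MorphismProperty.Over.Hom.ext
      exact pullback.lift_fst _ _ _

/-- Direct image along an identity. -/
def pushIdSh (X : Scheme.{u}) : EtDesc.pushSh (𝟙 X) ≅ 𝟭 (EtDesc.Sh X) :=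
  Functor.sheafPushforwardContinuousId' (bcIdIso X) (Type (u + 1)) X.smallEtaleTopology

/-- Units along isomorphisms are isomorphisms. -/
theorem isIso_unitSh_of_isIso {A B : Scheme.{u}} (f : B ⟶ A) [IsIso f] (F : EtDesc.Sh A) :
    IsIso ((EtDesc.adjSh f).unit.app F) := by
  haveI : (EtDesc.pushSh f).IsEquivalence :=
    (CategoryTheory.Equivalence.mk (EtDesc.pushSh f) (EtDesc.pushSh (inv f))
      ((EtDesc.pushCompSh (inv f) f ≪≫ eqToIso (by rw [IsIso.hom_inv_id]) ≪≫ pushIdSh B).symm)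
      (EtDesc.pushCompSh f (inv f) ≪≫ eqToIso (by rw [IsIso.inv_hom_id]) ≪≫ pushIdSh A)).isEquivalence_functor
  haveI : (EtDesc.pullSh f).IsEquivalence := (EtDesc.adjSh f).isEquivalence_left_of_isEquivalence_right
  infer_instance

end Groth.Agent.AcycCompLib
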