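import Groth.Agent.ExtAdj.Basic
import Groth.Agent.RDerLib.Horseshoe

/-!
# Transposition of Ext groups in low degrees

For an adjunction `L ⊣ R` with exact left adjoint: if the derived functors `R^q R` vanish on `F` for
`1 ≤ q ≤ n`, then transposition is bijective in degrees `≤ n` and injective in degree `n + 1`; conversely
surjectivity of transposition detects the vanishing.
-/

set_option autoImplicit false
set_option backward.isDefEq.respectTransparency false
set_option backward.isDefEq.respectTransparency.types false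
set_option linter.style.haveILetI false
set_option linter.unusedSectionVars false

universe w w' v v' u u'

open CategoryTheory CategoryTheory.Limits CategoryTheory.Abelian
open Groth.Agent.ExtAdj

noncomputable section

namespace Groth.Agent.AcycCompLib

variable {A : Type u} [Category.{v} A] [Abelian A] [EnoughInjectives A] [HasExt.{w} A]
  {B : Type u'} [Category.{v'} B] [Abelian B] [HasExt.{w'} B]
  {L : B ⥤ A} {R : A ⥤ B} (adj : L ⊣ R) [L.Additive] [R.Additive]
  [PreservesFiniteLimits L] [PreservesFiniteColimits L] (c : B)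

/-- The higher derived functors of `R` vanish on `F` up to degree `n`. -/
def AcUpTo (R : A ⥤ B) [R.Additive] (F : A) (n : ℕ) : Prop := ∀ q < n, IsZero ((R.rightDerived (q + 1)).obj F)

section LES

variable (R) {S : ShortComplex A} (hS : S.ShortExact) [Injective S.X₂]

include hS

theorem isZero_quotient (q : ℕ) (h : IsZero ((R.rightDerived (q + 1 + 1)).obj S.X₁)) :
    IsZero ((R.rightDerived (q + 1)).obj S.X₃) := by
  obtain ⟨Δ⟩ := RDerLib.nonempty_derivedLES R
  exact (Δ.exact₃ S hS (q + 1) (q + 1 + 1) rfl).isZero_of_both_zeros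
    ((R.isZero_rightDerived_obj_injective_succ q S.X₂).eq_of_src _ _) (h.eq_of_tgt _ _)

theorem isZero_of_quotient (q : ℕ) (h : IsZero ((R.rightDerived (q + 1)).obj S.X₃)) :
    IsZero ((R.rightDerived (q + 1 + 1)).obj S.X₁) := by
  obtain ⟨Δ⟩ := RDerLib.nonempty_derivedLES R
  exact (Δ.exact₁ S hS (q + 1) (q + 1 + 1) rfl).isZero_of_both_zeros
    (h.eq_of_src _ _) ((R.isZero_rightDerived_obj_injective_succ (q + 1) S.X₂).eq_of_tgt _ _)

theorem isZero_one_of_epi [PreservesFiniteLimits R] (h : Epi (R.map S.g)) :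
    IsZero ((R.rightDerived 1).obj S.X₁) := by
  obtain ⟨Δ⟩ := RDerLib.nonempty_derivedLES R
  haveI := h
  haveI : Epi ((R.rightDerived 0).map S.g) := by
    have e : (R.rightDerived 0).map S.g = R.rightDerivedZeroIsoSelf.hom.app S.X₂ ≫ R.map S.g ≫
        R.rightDerivedZeroIsoSelf.inv.app S.X₃ := by
      rw [← NatTrans.naturality_assoc, Iso.hom_inv_id_app, Category.comp_id]
    rw [e]
    infer_instance
  refine (Δ.exact₁ S hS 0 1 rfl).isZero_of_both_zeros ?_
    ((R.isZero_rightDerived_obj_injective_succ 0 S.X₂).eq_of_tgt _ _)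
  exact (cancel_epi ((R.rightDerived 0).map S.g)).1 ((Δ.comp_δ S hS 0 1 rfl).trans comp_zero.symm)

end LES

section Delta

variable {S : ShortComplex A} (hS : S.ShortExact)

/-- Transposition commutes with connecting maps. -/
theorem transpose_δ {T : B} {π : R.obj S.X₂ ⟶ T} {z : R.map S.f ≫ π = 0} (hT : (ShortComplex.mk _ π z).ShortExact)
    (i : T ⟶ R.obj S.X₃) (hi : π ≫ i = R.map S.g) {p : ℕ} (e : Ext c T p) :
    transpose adj c S.X₁ (p + 1) (e.comp hT.extClass rfl) =
      (transpose adj c S.X₃ p (e.comp (Ext.mk₀ i) (add_zero p))).comp hS.extClass rfl := by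
  let T' := ShortComplex.mk _ π z
  have hLT : (T'.map L).ShortExact := hT.map_of_exact L
  let φ : T'.map L ⟶ S :=
    { τ₁ := adj.counit.app _, τ₂ := adj.counit.app _, τ₃ := L.map i ≫ adj.counit.app _
      comm₁₂ := (adj.counit.naturality S.f).symm
      comm₂₃ := by
        show _ = L.map π ≫ L.map i ≫ _
        rw [← L.map_comp_assoc, hi]
        exact (adj.counit.naturality S.g).symm }
  rw [transpose, transpose, Ext.mapExactFunctor_comp, Ext.mapExactFunctor_comp, Ext.mapExactFunctor_extClass,
    Ext.mapExactFunctor_mk₀, Ext.comp_assoc_of_second_deg_zero (e.mapExactFunctor L), Ext.mk₀_comp_mk₀,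
    Ext.comp_assoc_of_third_deg_zero, Ext.comp_assoc_of_second_deg_zero]
  exact congrArg (fun m => (e.mapExactFunctor L).comp m rfl) (hLT.extClass_naturality hS φ)

end Delta

section Seq

variable {S : ShortComplex A} (hS : S.ShortExact) [Injective S.X₂]

include adj hS

theorem shortExact_coker :
    (ShortComplex.mk (R.map S.f) (cokernel.π (R.map S.f)) (cokernel.condition _)).ShortExact := by
  haveI : PreservesFiniteLimits R := adj.rightAdjoint_preservesLimits.{0, 0}.preservesFiniteLimits
  haveI := hS.mono_f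
  exact
    { exact := ShortComplex.exact_of_g_is_cokernel _ (cokernelIsCokernel _)
      mono_f := inferInstanceAs (Mono (R.map S.f)) }

theorem mono_cokerDesc :
    Mono (cokernel.desc (R.map S.f) (R.map S.g) (by rw [← R.map_comp, S.zero, R.map_zero])) := by
  haveI : PreservesFiniteLimits R := adj.rightAdjoint_preservesLimits.{0, 0}.preservesFiniteLimits
  haveI := hS.mono_f
  refine Preadditive.mono_of_cancel_zero _ fun {W} x hx => ?_
  obtain ⟨W₁, r, _, y, hy⟩ := surjective_up_to_refinements_of_epi (cokernel.π (R.map S.f)) x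
  have h0 : y ≫ R.map S.g = 0 := by
    rw [← cokernel.π_desc (R.map S.f) (R.map S.g) (by rw [← R.map_comp, S.zero, R.map_zero]), ← Category.assoc,
      ← hy, Category.assoc, hx, comp_zero]
  have hex : (S.map R).Exact := hS.exact.map_of_mono_of_preservesKernel R inferInstance inferInstance
  obtain ⟨W₂, r', _, z, hz⟩ := hex.exact_up_to_refinements y h0
  change W₂ ⟶ R.obj S.X₁ at z
  change r' ≫ y = z ≫ R.map S.f at hz
  rw [← cancel_epi r, comp_zero, hy, ← cancel_epi r', comp_zero, ← Category.assoc, hz, Category.assoc,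
    cokernel.condition, comp_zero]

theorem exists_δ_preimage {p : ℕ} {T : B} {π : R.obj S.X₂ ⟶ T} {z : R.map S.f ≫ π = 0}
    (hT : (ShortComplex.mk _ π z).ShortExact) (x : Ext c (R.obj S.X₁) (p + 1)) :
    ∃ e : Ext c T p, e.comp hT.extClass rfl = x := by
  haveI : Injective (R.obj S.X₂) := Injective.injective_of_adjoint adj _
  haveI : Injective (ShortComplex.mk _ π z).X₂ := ‹Injective (R.obj S.X₂)›
  exact Ext.covariant_sequence_exact₁ c hT x (Ext.eq_zero_of_injective (x.comp (Ext.mk₀ _) (add_zero _))) rfl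

theorem injective_transpose_one : Function.Injective (transpose adj c S.X₁ 1) := by
  have hT := shortExact_coker adj hS
  haveI := mono_cokerDesc adj hS
  intro a b hab
  obtain ⟨e, he⟩ := exists_δ_preimage adj c hS hT (a - b)
  have h0 : transpose adj c S.X₁ 1 (a - b) = 0 := by rw [transpose_sub, hab, sub_self]
  rw [← he, transpose_δ adj c hS hT _ (cokernel.π_desc (R.map S.f) (R.map S.g) (by rw [← R.map_comp, S.zero, R.map_zero])) e] at h0
  obtain ⟨u, hu⟩ := Ext.covariant_sequence_exact₃ (L.obj c) hS _ rfl h0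
  obtain ⟨v, rfl⟩ := (transpose_bijective_zero adj c S.X₂).2 u
  have h1 := (transpose_bijective_zero adj c S.X₃).1 ((transpose_mk₀ adj c S.g 0 v).trans hu)
  rw [← sub_eq_zero, ← he]
  obtain ⟨e, rfl⟩ := (Ext.mk₀_bijective _ _).2 e
  obtain ⟨v, rfl⟩ := (Ext.mk₀_bijective _ _).2 v
  rw [Ext.mk₀_comp_mk₀, Ext.mk₀_comp_mk₀] at h1
  replace h1 := (Ext.mk₀_bijective _ _).1 h1
  let i := cokernel.desc (R.map S.f) (R.map S.g) (by rw [← R.map_comp, S.zero, R.map_zero])
  replace h1 : v ≫ cokernel.π (R.map S.f) = e := by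
    rw [← cancel_mono i, Category.assoc, cokernel.π_desc]
    exact h1
  rw [← h1, ← Ext.mk₀_comp_mk₀, Ext.comp_assoc_of_second_deg_zero]
  exact (congrArg (fun m => (Ext.mk₀ v).comp m rfl) hT.comp_extClass).trans (Ext.comp_zero _ _ _ _ _)

theorem comp_eq_zero_of_surjective (h : Function.Surjective (transpose adj c S.X₁ 1))
    (t : c ⟶ R.obj S.X₃) {M : B} (π : R.obj S.X₃ ⟶ M) (hπ : R.map S.g ≫ π = 0) : t ≫ π = 0 := by
  have hT := shortExact_coker adj hS
  let i := cokernel.desc (R.map S.f) (R.map S.g) (by rw [← R.map_comp, S.zero, R.map_zero])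
  obtain ⟨x, hx⟩ := h ((transpose adj c S.X₃ 0 (Ext.mk₀ t)).comp hS.extClass rfl)
  obtain ⟨e, rfl⟩ := exists_δ_preimage adj c hS hT x
  rw [transpose_δ adj c hS hT i (cokernel.π_desc _ _ _) e, ← sub_eq_zero, sub_eq_add_neg, ← Ext.neg_comp,
    ← Ext.add_comp, ← sub_eq_add_neg, ← transpose_sub] at hx
  obtain ⟨u, hu⟩ := Ext.covariant_sequence_exact₃ (L.obj c) hS _ rfl hx
  obtain ⟨v, rfl⟩ := (transpose_bijective_zero adj c S.X₂).2 u
  have h1 := (transpose_bijective_zero adj c S.X₃).1 ((transpose_mk₀ adj c S.g 0 v).trans hu)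
  obtain ⟨e, rfl⟩ := (Ext.mk₀_bijective _ _).2 e
  obtain ⟨v, rfl⟩ := (Ext.mk₀_bijective _ _).2 v
  rw [Ext.mk₀_comp_mk₀, Ext.mk₀_comp_mk₀] at h1
  have h2 : Ext.mk₀ t = Ext.mk₀ (e ≫ i - v ≫ R.map S.g) := by
    rw [sub_eq_add_neg (e ≫ i), Ext.mk₀_add, Ext.mk₀_neg, h1]
    abel
  have hi : i ≫ π = 0 := by
    rw [← cancel_epi (cokernel.π (R.map S.f)), comp_zero, ← Category.assoc, cokernel.π_desc, hπ]
  rw [(Ext.mk₀_bijective _ _).1 h2, Preadditive.sub_comp, Category.assoc, Category.assoc, hi, hπ, comp_zero, comp_zero,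
    sub_zero]

theorem shortExact_map (h : Epi (R.map S.g)) : (S.map R).ShortExact := by
  haveI : PreservesFiniteLimits R := adj.rightAdjoint_preservesLimits.{0, 0}.preservesFiniteLimits
  haveI := hS.mono_f
  haveI := h
  exact
    { exact := hS.exact.map_of_mono_of_preservesKernel R inferInstance inferInstance
      mono_f := inferInstanceAs (Mono (R.map S.f))
      epi_g := h }

theorem surjective_transpose_quotient (h : Epi (R.map S.g)) (p : ℕ)
    (hp : Function.Surjective (transpose adj c S.X₁ (p + 1 + 1))) :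
    Function.Surjective (transpose adj c S.X₃ (p + 1)) := by
  have hR : (ShortComplex.mk (R.map S.f) (R.map S.g) (S.map R).zero).ShortExact := shortExact_map adj hS h
  intro y
  obtain ⟨x, hx⟩ := hp (y.comp hS.extClass rfl)
  obtain ⟨e, rfl⟩ := exists_δ_preimage adj c hS hR x
  rw [transpose_δ adj c hS hR (𝟙 _) (Category.comp_id _) e, Ext.comp_mk₀_id, ← sub_eq_zero, sub_eq_add_neg,
    ← Ext.neg_comp, ← Ext.add_comp, ← sub_eq_add_neg] at hx
  obtain ⟨u, hu⟩ := Ext.covariant_sequence_exact₃ (L.obj c) hS _ rfl hx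
  rw [Ext.eq_zero_of_injective u, Ext.zero_comp] at hu
  exact ⟨e, sub_eq_zero.1 hu.symm⟩

end Seq

/-- Transposition in low degrees. -/
theorem transpose_upTo : ∀ (p n : ℕ) (F : A), AcUpTo R F n →
    (p ≤ n → Function.Bijective (transpose adj c F p)) ∧ (p ≤ n + 1 → Function.Injective (transpose adj c F p)) := by
  intro p
  induction p with
  | zero => exact fun n F _ => ⟨fun _ => transpose_bijective_zero adj c F, fun _ => (transpose_bijective_zero adj c F).1⟩
  | succ p ih =>
    intro n F hF
    haveI : PreservesFiniteLimits R := adj.rightAdjoint_preservesLimits.{0, 0}.preservesFiniteLimits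
    let S : ShortComplex A := ShortComplex.mk (Injective.ι F) (cokernel.π (Injective.ι F)) (cokernel.condition _)
    have hS : S.ShortExact :=
      { exact := S.exact_of_g_is_cokernel (cokernelIsCokernel _) }
    haveI : Injective S.X₂ := inferInstanceAs (Injective (Injective.under F))
    rcases n with _ | m
    · refine ⟨fun h => absurd h (Nat.not_succ_le_zero p), fun h => ?_⟩
      obtain rfl : p = 0 := by omega
      exact injective_transpose_one adj c hS
    · have hepi : Epi (R.map S.g) := SpSeqLib.epi_map_of_isZero_rightDerived_one R hS (hF 0 m.succ_pos)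
      have hR : (ShortComplex.mk (R.map S.f) (R.map S.g) (S.map R).zero).ShortExact := shortExact_map adj hS hepi
      have hQ : AcUpTo R S.X₃ m := fun q hq => isZero_quotient R hS q (hF (q + 1) (Nat.succ_lt_succ hq))
      have hI : AcUpTo R S.X₂ p := fun q _ => R.isZero_rightDerived_obj_injective_succ q S.X₂
      have hδ : ∀ e : Ext c (R.obj S.X₃) p, transpose adj c F (p + 1) (e.comp hR.extClass rfl) =
          (transpose adj c S.X₃ p e).comp hS.extClass rfl := fun e => by
        have h := transpose_δ adj c hS hR (𝟙 _) (Category.comp_id _) e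
        rwa [Ext.comp_mk₀_id] at h
      constructor
      · intro hp
        refine ⟨?_, fun y => ?_⟩
        · exact injStep hS hR hδ (ih p S.X₂ hI).1 ((ih m S.X₃ hQ).2 (by omega))
        · obtain ⟨x, hx⟩ := Ext.covariant_sequence_exact₁ (L.obj c) hS y (Ext.eq_zero_of_injective _) rfl
          obtain ⟨e, rfl⟩ := ((ih m S.X₃ hQ).1 (by omega)).2 x
          exact ⟨e.comp hR.extClass rfl, (hδ e).trans hx⟩
      · intro hp
        exact injStep hS hR hδ (ih p S.X₂ hI).1 ((ih m S.X₃ hQ).2 (by omega))
where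
  injStep {S : ShortComplex A} [Injective S.X₂] (hS : S.ShortExact)
      {z : R.map S.f ≫ R.map S.g = 0} (hR : (ShortComplex.mk _ _ z).ShortExact) {p : ℕ}
      (hδ : ∀ e : Ext c (R.obj S.X₃) p, transpose adj c S.X₁ (p + 1) (e.comp hR.extClass rfl) =
          (transpose adj c S.X₃ p e).comp hS.extClass rfl)
      (hI : p ≤ p → Function.Bijective (transpose adj c S.X₂ p)) (hQ : Function.Injective (transpose adj c S.X₃ p)) :
      Function.Injective (transpose adj c S.X₁ (p + 1)) := fun a b hab => by
    obtain ⟨e, he⟩ := exists_δ_preimage adj c hS hR (a - b)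
    have h0 : (transpose adj c S.X₃ p e).comp hS.extClass rfl = 0 := by
      rw [← hδ, he, transpose_sub, hab, sub_self]
    obtain ⟨u, hu⟩ := Ext.covariant_sequence_exact₃ (L.obj c) hS _ rfl h0
    obtain ⟨v, rfl⟩ := (hI le_rfl).2 u
    have h1 : e = v.comp (Ext.mk₀ (R.map S.g)) (add_zero p) :=
      hQ (hu.symm.trans (transpose_mk₀ adj c S.g p v).symm)
    rw [← sub_eq_zero, ← he, h1, Ext.comp_assoc_of_second_deg_zero]
    exact (congrArg (fun m => v.comp m rfl) hR.comp_extClass).trans (Ext.comp_zero _ _ _ _ _)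

end Groth.Agent.AcycCompLib
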