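import Groth.Agent.AcycCompLib.Basic
import Groth.Agent.AcycCompLib.Transpose
import Groth.Agent.BCVertLib.EtaleBC
import Groth.Agent.RpushTorsLib.Basic
import Groth.Agent.EtLimLib.BigSys
import Groth.Agent.S14451

/-!
# Units and higher direct images detected on étale cohomology
-/

set_option autoImplicit false
set_option backward.isDefEq.respectTransparency false
set_option backward.isDefEq.respectTransparency.types false
set_option linter.style.haveILetI false
set_option linter.unusedSectionVars false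
set_option maxHeartbeats 1000000

universe u

open CategoryTheory CategoryTheory.Limits AlgebraicGeometry Opposite CategoryTheory.Abelian
open Groth.Agent.EtLimLib Groth.Agent.BCVertLib

noncomputable section

namespace Groth.Agent.AcycCompLib

section Edge

variable {X Y : Scheme.{u}} (f : X ⟶ Y) [PreservesFiniteLimits (EtCoh.pull f)] (F : EtCoh.Ab X) (p : ℕ)

/-- The transposition of Ext groups of the constant sheaf along `f`. -/
abbrev trZ : Ext (EtCoh.const Y ℤ) ((EtCoh.push f).obj F) p →
    Ext ((EtCoh.pull f).obj (EtCoh.const Y ℤ)) F p :=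
  haveI : (EtCoh.push f).Additive := (EtCoh.pullPushAdj f).right_adjoint_additive
  haveI : (EtCoh.pull f).Additive := (EtCoh.pullPushAdj f).left_adjoint_additive
  haveI : PreservesColimitsOfSize.{0, 0} (EtCoh.pull f) := (EtCoh.pullPushAdj f).leftAdjoint_preservesColimits
  haveI : PreservesFiniteColimits (EtCoh.pull f) := PreservesColimitsOfSize.preservesFiniteColimits _
  ExtAdj.transpose (EtCoh.pullPushAdj f) (EtCoh.const Y ℤ) F p

/-- Pull back of classes of the constant sheaf. -/
def fromPull (x : Ext ((EtCoh.pull f).obj (EtCoh.const Y ℤ)) F p) : EtCoh.H X F p :=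
  (Ext.mk₀ (EtCore.pullConst f ℤ).inv).comp x (zero_add p)

theorem bijective_fromPull : Function.Bijective (fromPull f F p) := by
  refine Function.bijective_iff_has_inverse.2
    ⟨fun y => (Ext.mk₀ (EtCore.pullConst f ℤ).hom).comp y (zero_add p), fun y => ?_, fun y => ?_⟩
  · simp [fromPull]
  · simp [fromPull]

theorem HofPush_eq : ⇑(EtLim.HofPush f F p) = fromPull f F p ∘ trZ f F p := funext fun x => by
  dsimp [EtLim.HofPush, EtCore.Hpull, fromPull, trZ, ExtAdj.transpose]
  refine Eq.trans ?_ (Ext.comp_assoc_of_third_deg_zero _ _ _ _)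
  rfl

theorem bijective_HofPush (n : ℕ) (hF : ∀ q, 1 ≤ q → q ≤ n → IsZero ((EtCoh.Rpush f q).obj F)) :
    (p ≤ n → Function.Bijective (EtLim.HofPush f F p)) ∧
      (p ≤ n + 1 → Function.Injective (EtLim.HofPush f F p)) := by
  haveI : (EtCoh.push f).Additive := (EtCoh.pullPushAdj f).right_adjoint_additive
  haveI : (EtCoh.pull f).Additive := (EtCoh.pullPushAdj f).left_adjoint_additive
  haveI : PreservesColimitsOfSize.{0, 0} (EtCoh.pull f) := (EtCoh.pullPushAdj f).leftAdjoint_preservesColimits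
  haveI : PreservesFiniteColimits (EtCoh.pull f) := PreservesColimitsOfSize.preservesFiniteColimits _
  have h := transpose_upTo (EtCoh.pullPushAdj f) (EtCoh.const Y ℤ) p n F
    (fun q hq => hF (q + 1) q.succ_pos hq)
  rw [HofPush_eq]
  exact ⟨fun hp => (bijective_fromPull f F p).comp (h.1 hp), fun hp => (bijective_fromPull f F p).1.comp (h.2 hp)⟩

theorem Hpull_eq_HofPush_unit (G : EtCoh.Ab Y) (x : EtCoh.H Y G p) :
    EtCore.Hpull f G p x =
      EtLim.HofPush f ((EtCoh.pull f).obj G) p (Sheaf.H.map ((EtCoh.pullPushAdj f).unit.app G) p x) := by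
  refine Eq.trans ?_ (HofPush_map_eq f ((EtCoh.pullPushAdj f).unit.app G) p x).symm
  rw [← KPi1Lib.HpullThen_id']
  refine congrArg (fun α => EtLim.HpullThen f G α p x) ?_
  exact (((EtCoh.pullPushAdj f).homEquiv _ _).symm_apply_eq.2 (Adjunction.homEquiv_id _ _).symm).symm

/-- The comparison condition from a unit isomorphism and vanishing direct images. -/
theorem bijective_Hpull_of_unit (G : EtCoh.Ab Y) (n : ℕ) (hu : IsIso ((EtCoh.pullPushAdj f).unit.app G))
    (hR : ∀ q, 1 ≤ q → q ≤ n → IsZero ((EtCoh.Rpush f q).obj ((EtCoh.pull f).obj G))) :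
    (p ≤ n → Function.Bijective (EtCore.Hpull f G p)) ∧
      (p ≤ n + 1 → Function.Injective (EtCore.Hpull f G p)) := by
  haveI := hu
  have e : ⇑(EtCore.Hpull f G p) = ⇑(EtLim.HofPush f ((EtCoh.pull f).obj G) p) ∘
      ⇑((EtCoh.HF Y p).map ((EtCoh.pullPushAdj f).unit.app G)).hom := funext fun x => Hpull_eq_HofPush_unit f p G x
  have hb := ConcreteCategory.bijective_of_isIso ((EtCoh.HF Y p).map ((EtCoh.pullPushAdj f).unit.app G))
  rw [e]
  exact ⟨fun hp => ((bijective_HofPush f _ p n hR).1 hp).comp hb,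
    fun hp => ((bijective_HofPush f _ p n hR).2 hp).comp hb.1⟩

theorem surjective_trZ_of_Hpull (G : EtCoh.Ab Y) (h : Function.Surjective (EtCore.Hpull f G p))
    (σ : (EtCoh.pull f).obj G ≅ F) : Function.Surjective (trZ f F p) := by
  haveI : (EtCoh.push f).Additive := (EtCoh.pullPushAdj f).right_adjoint_additive
  haveI : (EtCoh.pull f).Additive := (EtCoh.pullPushAdj f).left_adjoint_additive
  haveI : PreservesColimitsOfSize.{0, 0} (EtCoh.pull f) := (EtCoh.pullPushAdj f).leftAdjoint_preservesColimits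
  haveI : PreservesFiniteColimits (EtCoh.pull f) := PreservesColimitsOfSize.preservesFiniteColimits _
  intro y
  obtain ⟨x, hx⟩ := h (fromPull f _ p (y.comp (Ext.mk₀ σ.inv) (add_zero p)))
  rw [Hpull_eq_HofPush_unit, HofPush_eq] at hx
  have h1 := congrArg (fun z => z.comp (Ext.mk₀ σ.hom) (add_zero p)) ((bijective_fromPull f _ p).1 hx)
  rw [Ext.comp_assoc_of_second_deg_zero, Ext.mk₀_comp_mk₀, σ.inv_hom_id, Ext.comp_mk₀_id] at h1
  exact ⟨_, (ExtAdj.transpose_mk₀ (EtCoh.pullPushAdj f) _ σ.hom p _).trans h1⟩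

/-- Degree zero: the unit is bijective on global sections. -/
theorem bijective_unit_top (G : EtCoh.Ab Y) (h : Function.Bijective (EtCore.Hpull f G 0)) :
    Function.Bijective (((EtCoh.pullPushAdj f).unit.app G).hom.app (op (EtCoh.top Y))) := by
  have e : (fun s => ((EtCoh.pull f).obj G).obj.map (EtCore.bcTopIso f).inv.op
      (((EtCoh.pullPushAdj f).unit.app G).hom.app (op (EtCoh.top Y)) s)) =
      ⇑(Sheaf.H.equiv₀ ((EtCoh.pull f).obj G) (EtCore.topIsTerminal X)) ∘ ⇑(EtCore.Hpull f G 0) ∘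
        ⇑(Sheaf.H.equiv₀ G (EtCore.topIsTerminal Y)).symm := funext fun s => by
    have h0 := equiv₀_HpullThen f (𝟙 ((EtCoh.pull f).obj G)) ((Sheaf.H.equiv₀ G (EtCore.topIsTerminal Y)).symm s)
    rw [AddEquiv.apply_symm_apply, Adjunction.homEquiv_id, KPi1Lib.HpullThen_id'] at h0
    exact h0.symm
  refine (Function.Bijective.of_comp_iff' (ConcreteCategory.bijective_of_isIso
    (((EtCoh.pull f).obj G).obj.map (EtCore.bcTopIso f).inv.op)) _).1 ?_
  refine Eq.mpr (congrArg Function.Bijective e) ?_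
  exact (Sheaf.H.equiv₀ _ _).bijective.comp (h.comp (Sheaf.H.equiv₀ G _).symm.bijective)

end Edge

section Compat

variable {X S X' S' : Scheme.{u}} (f : X ⟶ S) (g : S' ⟶ S) (f' : X' ⟶ S') (g' : X' ⟶ X) (w : g' ≫ f = f' ≫ g)

theorem baseChange0_natural {F G : EtCoh.Ab X} (a : F ⟶ G) :
    (EtCoh.pull g).map ((EtCoh.push f).map a) ≫ EtCoh.baseChange0 f g f' g' w G =
      EtCoh.baseChange0 f g f' g' w F ≫ (EtCoh.push f').map ((EtCoh.pull g').map a) := by
  rw [EtCoh.baseChange0, EtCoh.baseChange0, ← Adjunction.homEquiv_naturality_left_symm,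
    ← Adjunction.homEquiv_naturality_right_symm]
  refine congrArg _ ?_
  show (EtCoh.push f).map a ≫ (EtCoh.push f).map _ ≫ (sqNat f g f' g' w).hom.app _ =
    ((EtCoh.push f).map _ ≫ (sqNat f g f' g' w).hom.app _) ≫ (EtCoh.push g).map ((EtCoh.push f').map _)
  have h1 : a ≫ (EtCoh.pullPushAdj g').unit.app G =
      (EtCoh.pullPushAdj g').unit.app F ≫ (EtCoh.push g').map ((EtCoh.pull g').map a) :=
    (EtCoh.pullPushAdj g').unit.naturality a
  have h2 := (sqNat f g f' g' w).hom.naturality ((EtCoh.pull g').map a)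
  simp only [Functor.comp_map] at h2
  rw [← Functor.map_comp_assoc, h1, Functor.map_comp_assoc, Category.assoc]
  exact congrArg _ h2

theorem homEquiv_comparePull {A B C : Scheme.{u}} (a : B ⟶ A) (b : C ⟶ B) (h : C ⟶ A) (w₀ : b ≫ a = h) (F : EtCoh.Ab A) :
    (EtCoh.pullPushAdj h).unit.app F ≫ (EtCoh.push h).map ((comparePull a b h w₀).app F) =
      (EtCoh.pullPushAdj a).unit.app F ≫ (EtCoh.push a).map ((EtCoh.pullPushAdj b).unit.app ((EtCoh.pull a).obj F)) ≫
        pushJoin a b h w₀ ((EtCoh.pull b).obj ((EtCoh.pull a).obj F)) :=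
  ((EtCoh.pullPushAdj h).homEquiv_unit _ _ _).symm.trans (Equiv.apply_symm_apply _ _)

/-- The unit after a base change. -/
theorem exists_pull_unit_baseChange0 (F : EtCoh.Ab S) :
    ∃ σ : (EtCoh.pull f').obj ((EtCoh.pull g).obj F) ≅ (EtCoh.pull g').obj ((EtCoh.pull f).obj F),
      (EtCoh.pull g).map ((EtCoh.pullPushAdj f).unit.app F) ≫ EtCoh.baseChange0 f g f' g' w ((EtCoh.pull f).obj F) =
        (EtCoh.pullPushAdj f').unit.app ((EtCoh.pull g).obj F) ≫ (EtCoh.push f').map σ.hom := by
  haveI := isIso_comparePull g f' (f' ≫ g) rfl F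
  haveI := isIso_comparePull f g' (f' ≫ g) w F
  let c₁ := (comparePull g f' (f' ≫ g) rfl).app F
  let c₂ := (comparePull f g' (f' ≫ g) w).app F
  refine ⟨(asIso c₁).symm ≪≫ asIso c₂, ?_⟩
  apply ((EtCoh.pullPushAdj g).homEquiv _ _).injective
  refine ((Adjunction.homEquiv_naturality_left _ _ _).trans (congrArg ((EtCoh.pullPushAdj f).unit.app F ≫ ·)
    (Equiv.apply_symm_apply _ _))).trans (Eq.trans ?_ ((EtCoh.pullPushAdj g).homEquiv_unit _ _ _).symm)
  show (EtCoh.pullPushAdj f).unit.app F ≫ (EtCoh.push f).map ((EtCoh.pullPushAdj g').unit.app ((EtCoh.pull f).obj F)) ≫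
      (sqNat f g f' g' w).hom.app _ = _
  rw [sqNat_eq, Functor.map_comp]
  have hn := pushJoin_natural g f' (f' ≫ g) rfl (inv c₁ ≫ c₂)
  have e₁ := homEquiv_comparePull g f' (f' ≫ g) rfl F
  have e₂ := homEquiv_comparePull f g' (f' ≫ g) w F
  have key : (EtCoh.pullPushAdj g).unit.app F ≫
      (EtCoh.push g).map ((EtCoh.pullPushAdj f').unit.app ((EtCoh.pull g).obj F)) ≫
        (EtCoh.push g).map ((EtCoh.push f').map (inv c₁ ≫ c₂)) ≫ pushJoin g f' (f' ≫ g) rfl _ =
      (EtCoh.pullPushAdj f).unit.app F ≫ (EtCoh.push f).map ((EtCoh.pullPushAdj g').unit.app ((EtCoh.pull f).obj F)) ≫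
        pushJoin f g' (f' ≫ g) w _ := by
    rw [hn]
    erw [← reassoc_of% e₁, ← e₂, ← Functor.map_comp, IsIso.hom_inv_id_assoc]
  show _ = (EtCoh.pullPushAdj g).unit.app F ≫
      (EtCoh.push g).map ((EtCoh.pullPushAdj f').unit.app ((EtCoh.pull g).obj F)) ≫
        (EtCoh.push g).map ((EtCoh.push f').map (inv c₁ ≫ c₂))
  rw [← reassoc_of% key]
  simp only [pushJoin_pushSp, Category.comp_id]

end Compat

section Local

variable {V : Scheme.{u}}

theorem bijective_restr_top (W : V.Etale) [EtShriek.JCont W.hom] {A B : EtCoh.Ab V} (a : A ⟶ B)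
    (h : Function.Bijective (((EtShriek.restrAlong W.hom).map a).hom.app (op (EtCoh.top W.left)))) :
    Function.Bijective (a.hom.app (op W)) := by
  let i : (EtShriek.compEtale W.hom).obj (EtCoh.top W.left) ≅ W :=
    MorphismProperty.Over.isoMk (Iso.refl _) (by
      show 𝟙 _ ≫ W.hom = 𝟙 _ ≫ W.hom
      rfl)
  have e : ⇑(B.obj.map i.hom.op) ∘ ⇑(a.hom.app (op W)) =
      ⇑(a.hom.app (op ((EtShriek.compEtale W.hom).obj (EtCoh.top W.left)))) ∘ ⇑(A.obj.map i.hom.op) :=
    funext fun s => (NatTrans.naturality_apply a.hom i.hom.op s).symm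
  refine (Function.Bijective.of_comp_iff' (ConcreteCategory.bijective_of_isIso (B.obj.map i.hom.op)) _).1 ?_
  rw [e]
  exact h.comp (ConcreteCategory.bijective_of_isIso (A.obj.map i.hom.op))

theorem map_pull_restr (W : V.Etale) [AlgebraicGeometry.Etale W.hom] [EtShriek.JCont W.hom] {A B : EtCoh.Ab V}
    (a : A ⟶ B) :
    ⇑(((EtShriek.restrAlong W.hom).map a).hom.app (op (EtCoh.top W.left))) ∘
        ⇑(((EtPtsLib.pullIsoRestr W.hom).hom.app A).hom.app (op (EtCoh.top W.left))) =
      ⇑(((EtPtsLib.pullIsoRestr W.hom).hom.app B).hom.app (op (EtCoh.top W.left))) ∘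
        ⇑(((EtCoh.pull W.hom).map a).hom.app (op (EtCoh.top W.left))) := funext fun s =>
  (ConcreteCategory.congr_hom (congrArg (fun m => m.hom.app (op (EtCoh.top W.left)))
    ((EtPtsLib.pullIsoRestr W.hom).hom.naturality a)) s).symm

theorem bijective_app_of_isIso {Z : Scheme.{u}} {A B : EtCoh.Ab Z} (a : A ⟶ B) [IsIso a] (U : Z.Etale) :
    Function.Bijective (a.hom.app (op U)) := by
  haveI : IsIso a.hom := inferInstanceAs (IsIso ((sheafToPresheaf _ _).map a))
  exact ConcreteCategory.bijective_of_isIso _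

/-- Isomorphisms are detected on the global sections of the inverse images to étale schemes. -/
theorem isIso_of_bijective_top {A B : EtCoh.Ab V} (a : A ⟶ B)
    (h : ∀ W : V.Etale, Function.Bijective (((EtCoh.pull W.hom).map a).hom.app (op (EtCoh.top W.left)))) :
    IsIso a := by
  haveI : ∀ W, IsIso (a.hom.app W) := fun W => by
    haveI : AlgebraicGeometry.Etale W.unop.hom := W.unop.prop
    haveI : EtShriek.JCont W.unop.hom := EtJCont.jCont W.unop.hom
    refine (ConcreteCategory.isIso_iff_bijective _).2 (bijective_restr_top W.unop a ?_)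
    refine ((bijective_app_of_isIso ((EtPtsLib.pullIsoRestr W.unop.hom).hom.app A) _).of_comp_iff _).1 ?_
    rw [map_pull_restr]
    exact (bijective_app_of_isIso ((EtPtsLib.pullIsoRestr W.unop.hom).hom.app B) _).comp (h W.unop)
  haveI : IsIso a.hom := NatIso.isIso_of_isIso_app _
  haveI : IsIso ((sheafToPresheaf _ _).map a) := ‹IsIso a.hom›
  exact isIso_of_fully_faithful (sheafToPresheaf _ _) _

/-- Vanishing is detected on the global sections of the inverse images to étale schemes. -/
theorem eq_zero_of_top {A B : EtCoh.Ab V} (a : A ⟶ B)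
    (h : ∀ (W : V.Etale) (s : EtCoh.sect ((EtCoh.pull W.hom).obj A) (EtCoh.top W.left)),
      ((EtCoh.pull W.hom).map a).hom.app (op (EtCoh.top W.left)) s = 0) : a = 0 := by
  refine ObjectProperty.hom_ext _ (NatTrans.ext (funext fun W => ?_))
  ext s
  haveI : AlgebraicGeometry.Etale W.unop.hom := W.unop.prop
  haveI : EtShriek.JCont W.unop.hom := EtJCont.jCont W.unop.hom
  let i : (EtShriek.compEtale W.unop.hom).obj (EtCoh.top W.unop.left) ≅ W.unop :=
    MorphismProperty.Over.isoMk (Iso.refl _) (by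
      show 𝟙 _ ≫ W.unop.hom = 𝟙 _ ≫ W.unop.hom
      rfl)
  refine (ConcreteCategory.bijective_of_isIso (B.obj.map i.hom.op)).1 ?_
  refine (NatTrans.naturality_apply a.hom i.hom.op s).symm.trans ?_
  obtain ⟨t, ht⟩ := (bijective_app_of_isIso ((EtPtsLib.pullIsoRestr W.unop.hom).hom.app A) (EtCoh.top W.unop.left)).2
    (A.obj.map i.hom.op s)
  refine ((congrArg _ ht.symm).trans (congrFun (map_pull_restr W.unop a) t)).trans ?_
  exact ((congrArg (((EtPtsLib.pullIsoRestr W.unop.hom).hom.app B).hom.app (op (EtCoh.top W.unop.left)))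
    (h W.unop t)).trans (map_zero _)).trans (map_zero _).symm

variable {Y : Scheme.{u}} (f : Y ⟶ V)

/-- The projection to the étale scheme `W`. -/
abbrev fW (W : V.Etale) : pullback W.hom f ⟶ W.left := pullback.fst W.hom f

theorem isPullback_fW (W : V.Etale) : IsPullback (pullback.snd W.hom f) (fW f W) f W.hom :=
  (IsPullback.of_hasPullback W.hom f).flip

theorem isIso_bc (W : V.Etale) (G : EtCoh.Ab Y) :
    IsIso (EtCoh.baseChange0 f W.hom (fW f W) (pullback.snd W.hom f) (isPullback_fW f W).w G) := by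
  haveI : AlgebraicGeometry.Etale W.hom := W.prop
  exact isIso_baseChange0_etale f W.hom _ _ (isPullback_fW f W) G

theorem isIso_unit_of_Hpull (F : EtCoh.Ab V)
    (h : ∀ (W : V.Etale) [PreservesFiniteLimits (EtCoh.pull (fW f W))],
      Function.Bijective (EtCore.Hpull (fW f W) ((EtCoh.pull W.hom).obj F) 0)) :
    IsIso ((EtCoh.pullPushAdj f).unit.app F) := by
  refine isIso_of_bijective_top _ fun W => ?_
  haveI : PreservesFiniteLimits (EtCoh.pull (fW f W)) := S0101.result _
  obtain ⟨σ, hσ⟩ := exists_pull_unit_baseChange0 f W.hom (fW f W) (pullback.snd W.hom f) (isPullback_fW f W).w F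
  haveI := isIso_bc f W ((EtCoh.pull f).obj F)
  have hb := bijective_app_of_isIso
    (EtCoh.baseChange0 f W.hom (fW f W) (pullback.snd W.hom f) (isPullback_fW f W).w ((EtCoh.pull f).obj F))
    (EtCoh.top W.left)
  refine (Function.Bijective.of_comp_iff' hb _).1 ?_
  have e : ⇑((EtCoh.baseChange0 f W.hom (fW f W) (pullback.snd W.hom f) (isPullback_fW f W).w
        ((EtCoh.pull f).obj F)).hom.app (op (EtCoh.top W.left))) ∘
      ⇑(((EtCoh.pull W.hom).map ((EtCoh.pullPushAdj f).unit.app F)).hom.app (op (EtCoh.top W.left))) =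
      ⇑(((EtCoh.push (fW f W)).map σ.hom).hom.app (op (EtCoh.top W.left))) ∘
        ⇑(((EtCoh.pullPushAdj (fW f W)).unit.app ((EtCoh.pull W.hom).obj F)).hom.app (op (EtCoh.top W.left))) :=
    funext fun s => ConcreteCategory.congr_hom (congrArg (fun m => m.hom.app (op (EtCoh.top W.left))) hσ) s
  refine Eq.mpr (congrArg Function.Bijective e) ?_
  haveI : IsIso ((EtCoh.push (fW f W)).map σ.hom) := inferInstance
  exact (bijective_app_of_isIso ((EtCoh.push (fW f W)).map σ.hom) _).comp (bijective_unit_top (fW f W) _ (h W))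

/-- Transposition is surjective in degree `p` on every étale `W → V`. -/
def SurjAt (G : EtCoh.Ab Y) (p : ℕ) : Prop :=
  ∀ (W : V.Etale) [PreservesFiniteLimits (EtCoh.pull (fW f W))],
    Function.Surjective (trZ (fW f W) ((EtCoh.pull (pullback.snd W.hom f)).obj G) p)

variable {S : ShortComplex (EtCoh.Ab Y)} (hS : S.ShortExact) [Injective S.X₂]

include hS

theorem pull_shortExact (W : V.Etale) :
    (S.map (EtCoh.pull (pullback.snd W.hom f))).ShortExact ∧
      Injective (S.map (EtCoh.pull (pullback.snd W.hom f))).X₂ := by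
  haveI : AlgebraicGeometry.Etale W.hom := W.prop
  haveI : AlgebraicGeometry.Etale (pullback.snd W.hom f) :=
    MorphismProperty.of_isPullback (P := @AlgebraicGeometry.Etale) (IsPullback.of_hasPullback W.hom f) ‹_›
  exact ⟨S17614.shortExact_pull _ hS, injective_pull_etale _ S.X₂⟩

theorem epi_push_of_surjAt (h : SurjAt f S.X₁ 1) : Epi ((EtCoh.push f).map S.g) := by
  refine Abelian.epi_of_cokernel_π_eq_zero _ (eq_zero_of_top _ fun W s => ?_)
  haveI : PreservesFiniteLimits (EtCoh.pull (fW f W)) := S0101.result _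
  haveI : (EtCoh.push (fW f W)).Additive := (EtCoh.pullPushAdj (fW f W)).right_adjoint_additive
  haveI : (EtCoh.pull (fW f W)).Additive := (EtCoh.pullPushAdj (fW f W)).left_adjoint_additive
  haveI : PreservesColimitsOfSize.{0, 0} (EtCoh.pull (fW f W)) :=
    (EtCoh.pullPushAdj (fW f W)).leftAdjoint_preservesColimits
  haveI : PreservesFiniteColimits (EtCoh.pull (fW f W)) := PreservesColimitsOfSize.preservesFiniteColimits _
  obtain ⟨hS', hI⟩ := pull_shortExact f hS W
  haveI := hI
  haveI := isIso_bc f W S.X₃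
  let b := EtCoh.baseChange0 f W.hom (fW f W) (pullback.snd W.hom f) (isPullback_fW f W).w S.X₃
  let φ := RpushTorsLib.secHom _ s
  have hπ : (EtCoh.push (fW f W)).map (S.map (EtCoh.pull (pullback.snd W.hom f))).g ≫
      inv b ≫ (EtCoh.pull W.hom).map (cokernel.π ((EtCoh.push f).map S.g)) = 0 := by
    haveI := isIso_bc f W S.X₂
    rw [← cancel_epi (EtCoh.baseChange0 f W.hom (fW f W) (pullback.snd W.hom f) (isPullback_fW f W).w S.X₂),
      comp_zero, ← Category.assoc]
    have hn := baseChange0_natural f W.hom (fW f W) (pullback.snd W.hom f) (isPullback_fW f W).w S.g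
    haveI : (EtCoh.pull W.hom).Additive := (EtCoh.pullPushAdj W.hom).left_adjoint_additive
    refine (congrArg (· ≫ inv b ≫ (EtCoh.pull W.hom).map (cokernel.π ((EtCoh.push f).map S.g))) hn.symm).trans ?_
    simp only [b, Category.assoc, IsIso.hom_inv_id_assoc]
    exact ((EtCoh.pull W.hom).map_comp _ _).symm.trans ((congrArg (EtCoh.pull W.hom).map (cokernel.condition _)).trans
      (Functor.map_zero _ _ _))
  have h0 := comp_eq_zero_of_surjective (EtCoh.pullPushAdj (fW f W)) (EtCoh.const W.left ℤ) hS' (h W) (φ ≫ b)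
    (inv b ≫ (EtCoh.pull W.hom).map (cokernel.π ((EtCoh.push f).map S.g))) hπ
  rw [Category.assoc, IsIso.hom_inv_id_assoc] at h0
  apply (RpushTorsLib.secHom _).injective
  rw [map_zero]
  exact (RpushTorsLib.secHom_natural _ s).trans h0

theorem surjAt_quotient (h₁ : SurjAt f S.X₁ 1) (p : ℕ) (h : SurjAt f S.X₁ (p + 1 + 1)) :
    SurjAt f S.X₃ (p + 1) := by
  intro W _
  haveI : (EtCoh.push (fW f W)).Additive := (EtCoh.pullPushAdj (fW f W)).right_adjoint_additive
  haveI : (EtCoh.pull (fW f W)).Additive := (EtCoh.pullPushAdj (fW f W)).left_adjoint_additive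
  haveI : PreservesColimitsOfSize.{0, 0} (EtCoh.pull (fW f W)) :=
    (EtCoh.pullPushAdj (fW f W)).leftAdjoint_preservesColimits
  haveI : PreservesFiniteColimits (EtCoh.pull (fW f W)) := PreservesColimitsOfSize.preservesFiniteColimits _
  obtain ⟨hS', hI⟩ := pull_shortExact f hS W
  haveI := hI
  haveI := epi_push_of_surjAt f hS h₁
  haveI := isIso_bc f W S.X₃
  haveI : PreservesColimitsOfSize.{0, 0} (EtCoh.pull W.hom) :=
    (EtCoh.pullPushAdj W.hom).leftAdjoint_preservesColimits
  haveI : PreservesFiniteColimits (EtCoh.pull W.hom) := PreservesColimitsOfSize.preservesFiniteColimits _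
  refine surjective_transpose_quotient (EtCoh.pullPushAdj (fW f W)) _ hS' ?_ p (h W)
  have hn := baseChange0_natural f W.hom (fW f W) (pullback.snd W.hom f) (isPullback_fW f W).w S.g
  haveI : Epi ((EtCoh.pull W.hom).map ((EtCoh.push f).map S.g)) := inferInstance
  exact epi_of_epi_fac hn.symm

omit hS

/-- Higher direct images vanish up to degree `n` as soon as the transposition maps are surjective on every
étale scheme. -/
theorem isZero_Rpush_of_surjAt : ∀ (n : ℕ) (G : EtCoh.Ab Y), (∀ p, 1 ≤ p → p ≤ n → SurjAt f G p) →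
    ∀ q, 1 ≤ q → q ≤ n → IsZero ((EtCoh.Rpush f q).obj G) := by
  intro n
  induction n with
  | zero => intros; omega
  | succ n ih =>
    intro G hG q hq1 hq
    haveI : (EtCoh.push f).Additive := (EtCoh.pullPushAdj f).right_adjoint_additive
    haveI : PreservesFiniteLimits (EtCoh.push f) :=
      (EtCoh.pullPushAdj f).rightAdjoint_preservesLimits.{0, 0}.preservesFiniteLimits
    let T : ShortComplex (EtCoh.Ab Y) :=
      ShortComplex.mk (Injective.ι G) (cokernel.π (Injective.ι G)) (cokernel.condition _)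
    have hT : T.ShortExact :=
      { exact := T.exact_of_g_is_cokernel (cokernelIsCokernel _) }
    haveI : Injective T.X₂ := inferInstanceAs (Injective (Injective.under G))
    rcases q with _ | _ | q
    · omega
    · exact isZero_one_of_epi (EtCoh.push f) hT (epi_push_of_surjAt f hT (hG 1 le_rfl (by omega)))
    · refine isZero_of_quotient (EtCoh.push f) hT q (ih T.X₃ (fun p hp1 hp => ?_) (q + 1) q.succ_pos (by omega))
      obtain ⟨p, rfl⟩ := Nat.exists_eq_succ_of_ne_zero (Nat.one_le_iff_ne_zero.1 hp1)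
      exact surjAt_quotient f hT (hG 1 le_rfl (by omega)) p (hG (p + 1 + 1) (by omega) (by omega))

theorem surjAt_of_Hpull (F : EtCoh.Ab V) (p : ℕ)
    (h : ∀ (W : V.Etale) [PreservesFiniteLimits (EtCoh.pull (fW f W))],
      Function.Surjective (EtCore.Hpull (fW f W) ((EtCoh.pull W.hom).obj F) p)) :
    SurjAt f ((EtCoh.pull f).obj F) p := fun W _ => by
  obtain ⟨σ, -⟩ := exists_pull_unit_baseChange0 f W.hom (fW f W) (pullback.snd W.hom f) (isPullback_fW f W).w F
  exact surjective_trZ_of_Hpull (fW f W) _ p _ (h W) σ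

end Local

end Groth.Agent.AcycCompLib
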